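import Cfsg.Prelude.Def_Balance
import Cfsg.Agent.Lib.PCore.HallHigman
import Cfsg.Agent.Lib.Components.Layer

/-!
The `p`-layer is characteristic; the extended 2-layer: one Sylow subgroup suffices, normality, and
`L* = L_{2'} F` with `F` of odd order normalised by a Sylow 2-subgroup.
-/

namespace Cfsg.Agent.TwoLayer

open Subgroup

variable {G G' : Type*} [Group G] [Group G'] {p : ℕ}

theorem isPComponent_map {K : Subgroup G} (hK : IsPComponent p K) (e : G ≃* G') :
    IsPComponent p (K.map e.toMonoidHom) := by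
  obtain ⟨hsn, hcomp, hmin⟩ := hK
  have hO := PCore.map_pPrimeCore_mulEquiv (p := p) e
  let φ := QuotientGroup.congr (pPrimeCore p G) (pPrimeCore p G') e hO
  have hφ : φ.toMonoidHom.comp (QuotientGroup.mk' (pPrimeCore p G)) =
      (QuotientGroup.mk' (pPrimeCore p G')).comp e.toMonoidHom := by
    ext x; rfl
  have hm : ∀ H : Subgroup G, (H.map e.toMonoidHom).map (QuotientGroup.mk' (pPrimeCore p G')) =
      (H.map (QuotientGroup.mk' (pPrimeCore p G))).map φ.toMonoidHom := by
    intro H; rw [map_map, map_map, hφ]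
  refine ⟨hsn.map e.surjective, hm K ▸ Components.IsComponent.map_equiv hcomp φ, ?_⟩
  intro H hH hle heq
  have hH' : (H.map e.symm.toMonoidHom).map e.toMonoidHom = H := by
    rw [map_map]
    convert H.map_id
    ext x
    exact e.apply_symm_apply x
  have := hmin (H.map e.symm.toMonoidHom) (hH.map e.symm.surjective) (by
    rintro _ ⟨y, hy, rfl⟩
    obtain ⟨k, hk, rfl⟩ := hle hy
    simpa using hk) (by
    apply map_injective (f := φ.toMonoidHom) φ.injective
    rw [← hm, ← hm, hH', heq])
  rw [← hH', this]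

theorem map_pLayer_le (e : G ≃* G') : (pLayer p G).map e.toMonoidHom ≤ pLayer p G' := by
  rw [map_le_iff_le_comap]
  exact sSup_le fun K hK => map_le_iff_le_comap.mp (le_sSup (isPComponent_map hK e))

instance pLayer_characteristic (p : ℕ) (G : Type*) [Group G] : (pLayer p G).Characteristic :=
  characteristic_iff_map_le.mpr fun e => map_pLayer_le e

/-- `O(H)` as a subgroup of the ambient group. -/
def coreOf (H : Subgroup G) : Subgroup G := (oddCore H).map H.subtype

theorem map_coreOf (H : Subgroup G) (e : G ≃* G') :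
    (coreOf H).map e.toMonoidHom = coreOf (H.map e.toMonoidHom) := by
  have h := PCore.map_pPrimeCore_mulEquiv (p := 2) (e.subgroupMap H)
  refine Eq.trans ?_ (congrArg (Subgroup.map (H.map e.toMonoidHom).subtype) h)
  ext a
  constructor
  · rintro ⟨b, ⟨c, hc, rfl⟩, rfl⟩
    exact ⟨_, ⟨c, hc, rfl⟩, rfl⟩
  · rintro ⟨b, ⟨c, hc, rfl⟩, rfl⟩
    exact ⟨_, ⟨c, hc, rfl⟩, rfl⟩

theorem map_centralizer (H : Subgroup G) (e : G ≃* G') :
    (centralizer (H : Set G)).map e.toMonoidHom = centralizer (H.map e.toMonoidHom : Set G') := by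
  ext a
  constructor
  · rintro ⟨b, hb, rfl⟩
    rw [mem_centralizer_iff]
    rintro _ ⟨c, hc, rfl⟩
    simp only [MulEquiv.coe_toMonoidHom, ← map_mul, mem_centralizer_iff.mp hb c hc]
  · intro ha
    refine ⟨e.symm a, mem_centralizer_iff.mpr fun c hc => e.injective ?_, e.apply_symm_apply a⟩
    simpa using mem_centralizer_iff.mp ha (e c) (mem_map_of_mem e.toMonoidHom hc)

theorem coreOf_le (H : Subgroup G) : coreOf H ≤ H := map_subtype_le _

theorem odd_card_coreOf [Finite G] (H : Subgroup G) : Odd (Nat.card (coreOf H)) := by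
  rw [coreOf, card_map_of_injective H.subtype_injective]
  exact PCore.odd_card_oddCore

theorem normalizer_le_normalizer_coreOf_centralizer (H : Subgroup G) :
    normalizer (H : Set G) ≤ normalizer (coreOf (centralizer (H : Set G)) : Set G) :=
  (show normalizer (H : Set G) ≤ normalizer (centralizer (H : Set G) : Set G) from
    fun g hg => by
      rw [mem_normalizer_iff]
      have aux : ∀ u ∈ normalizer (H : Set G), ∀ a ∈ centralizer (H : Set G),
          u * a * u⁻¹ ∈ centralizer (H : Set G) := by
        intro u hu a ha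
        rw [mem_centralizer_iff]
        intro c hc
        have hc' : u⁻¹ * c * u ∈ H := (mem_normalizer_iff.mp hu _).mpr (by simpa [mul_assoc] using hc)
        have := mem_centralizer_iff.mp ha _ hc'
        calc c * (u * a * u⁻¹) = u * (u⁻¹ * c * u * a) * u⁻¹ := by simp [mul_assoc]
          _ = u * (a * (u⁻¹ * c * u)) * u⁻¹ := by rw [this]
          _ = _ := by simp [mul_assoc]
      exact fun a => ⟨aux g hg a, fun ha => by
        simpa [mul_assoc] using aux g⁻¹ (inv_mem hg) _ ha⟩).trans
    (Components.normalizer_le_normalizer_map_of_characteristic _ _)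

variable {X : Type*} [Group X]

/-- `L_{2'}(X) O_{2',2}(X)` -/
def base (X : Type*) [Group X] : Subgroup X := pLayer 2 X ⊔ pPrimePCore 2 X

/-- `L_{2'}(X) O(X)` -/
def low (X : Type*) [Group X] : Subgroup X := pLayer 2 X ⊔ oddCore X

/-- the term of a Sylow 2-subgroup in the definition of the extended 2-layer -/
def term (T : Sylow 2 ↥(base X)) : Subgroup X :=
  coreOf (centralizer (((T : Subgroup ↥(base X)).map (base X).subtype : Subgroup X) : Set X))

theorem extendedTwoLayer_def :
    extendedTwoLayer X = low X ⊔ ⨆ T : Sylow 2 ↥(base X), term T := rfl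

instance base_normal (X : Type*) [Group X] : (base X).Normal :=
  inferInstanceAs (pLayer 2 X ⊔ pPrimePCore 2 X).Normal

instance low_normal (X : Type*) [Group X] : (low X).Normal :=
  inferInstanceAs (pLayer 2 X ⊔ oddCore X).Normal

theorem exists_relIndex_low [Finite X] : ∃ m, (low X).relIndex (base X) = 2 ^ m := by
  have : Fact (Nat.Prime 2) := ⟨Nat.prime_two⟩
  set f := QuotientGroup.map (oddCore X) (low X) (MonoidHom.id X)
    (fun x hx => mem_sup_right hx) with hf
  have hfm : f.comp (QuotientGroup.mk' (oddCore X)) = QuotientGroup.mk' (low X) := by ext x; rfl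
  have himg : (base X).map (QuotientGroup.mk' (low X)) =
      (pCore 2 (X ⧸ oddCore X)).map f := by
    rw [base, Subgroup.map_sup, (Subgroup.map_eq_bot_iff _).mpr
      (show pLayer 2 X ≤ _ by rw [QuotientGroup.ker_mk']; exact le_sup_left), bot_sup_eq,
      ← PCore.map_pPrimePCore, map_map, hfm]
  have hp : IsPGroup 2 ↥((base X).map (QuotientGroup.mk' (low X))) := by
    rw [himg]; exact PCore.isPGroup_pCore.map f
  obtain ⟨m, hm⟩ := hp.exists_card_eq
  exact ⟨m, by rw [PCore.relIndex_eq_card_map_mk', hm]⟩

theorem base_le_sup [Finite X] (T : Sylow 2 ↥(base X)) :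
    base X ≤ low X ⊔ (T : Subgroup ↥(base X)).map (base X).subtype := by
  have : Fact (Nat.Prime 2) := ⟨Nat.prime_two⟩
  obtain ⟨m, hm⟩ := exists_relIndex_low (X := X)
  have hle : low X ≤ base X := sup_le_sup_left PCore.pPrimeCore_le_pPrimePCore _
  have h := congrArg (Subgroup.map (base X).subtype)
    (PCore.sylow_sup_eq_top T ((low X).subgroupOf (base X)) hm)
  rw [Subgroup.map_sup, map_subgroupOf_eq_of_le hle, ← MonoidHom.range_eq_map, range_subtype] at h
  exact h.ge.trans (sup_comm _ _).le

theorem term_le [Finite X] (T T' : Sylow 2 ↥(base X)) : term T' ≤ low X ⊔ term T := by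
  have : Fact (Nat.Prime 2) := ⟨Nat.prime_two⟩
  obtain ⟨n, hn⟩ := MulAction.exists_smul_eq ↥(base X) T T'
  set P : Subgroup X := (T : Subgroup ↥(base X)).map (base X).subtype with hP
  have hn' : (n : X) ∈ low X ⊔ P := base_le_sup T n.2
  rw [← SetLike.mem_coe, Subgroup.normal_mul] at hn'
  obtain ⟨m, hm, t, ht, hmt⟩ := hn'
  have hPt : P.map (MulAut.conj t).toMonoidHom = P := by
    ext a
    constructor
    · rintro ⟨b, hb, rfl⟩
      exact mul_mem (mul_mem ht hb) (inv_mem ht)
    · intro ha
      exact ⟨t⁻¹ * a * t, mul_mem (mul_mem (inv_mem ht) ha) ht, by simp [mul_assoc]⟩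
  have hT' : (T' : Subgroup ↥(base X)).map (base X).subtype =
      P.map (MulAut.conj m).toMonoidHom := by
    rw [← hn, Sylow.coe_subgroup_smul]
    conv_rhs => rw [← hPt]
    rw [map_map, hP, map_map]
    change Subgroup.map _ ((T : Subgroup ↥(base X)).map (MulAut.conj n).toMonoidHom) = _
    rw [map_map]
    congr 1
    ext a
    change ((n * a * n⁻¹ : ↥(base X)) : X) = m * (t * a * t⁻¹) * m⁻¹
    push_cast
    rw [← hmt]
    simp [mul_assoc]
  rw [term, hT', ← map_centralizer, ← map_coreOf]
  rintro _ ⟨x, hx, rfl⟩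
  have hx' : x ∈ term T := hx
  change m * x * m⁻¹ ∈ _
  exact mul_mem (mul_mem (mem_sup_left hm) (mem_sup_right hx')) (inv_mem (mem_sup_left hm))

theorem extendedTwoLayer_eq [Finite X] (T : Sylow 2 ↥(base X)) :
    extendedTwoLayer X = low X ⊔ term T := by
  rw [extendedTwoLayer_def]
  exact le_antisymm (sup_le le_sup_left (iSup_le fun T' => term_le T T'))
    (sup_le_sup_left (le_iSup (fun T => term T) T) _)

theorem extendedTwoLayer_normal [Finite X] : (extendedTwoLayer X).Normal := by
  have : Fact (Nat.Prime 2) := ⟨Nat.prime_two⟩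
  refine ⟨fun a ha g => ?_⟩
  suffices (extendedTwoLayer X).map (MulAut.conj g).toMonoidHom ≤ extendedTwoLayer X from
    this (mem_map_of_mem (MulAut.conj g).toMonoidHom ha)
  rw [extendedTwoLayer_def]
  rw [Subgroup.map_sup, Subgroup.map_iSup]
  refine sup_le (le_trans ?_ le_sup_left) (iSup_le fun T => ?_)
  · rintro _ ⟨b, hb, rfl⟩
    exact (low_normal X).conj_mem b hb g
  · let T' : Sylow 2 ↥(base X) := (MulAut.conjNormal (H := base X) g) • T
    refine le_trans ?_ ((le_iSup (fun T => term T) T').trans le_sup_right)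
    rw [term, term, map_coreOf, map_centralizer, map_map]
    change coreOf (centralizer (((T : Subgroup ↥(base X)).map
      ((MulAut.conj g).toMonoidHom.comp (base X).subtype) : Subgroup X) : Set X)) ≤
      coreOf (centralizer (((T' : Subgroup ↥(base X)).map (base X).subtype : Subgroup X) : Set X))
    rw [show T' = MulAut.conjNormal (H := base X) g • T from rfl, Sylow.pointwise_smul_def]
    change _ ≤ coreOf (centralizer (((Subgroup.map
      (MulAut.conjNormal (H := base X) g).toMonoidHom (T : Subgroup ↥(base X))).map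
      (base X).subtype : Subgroup X) : Set X))
    rw [map_map]
    rfl

theorem exists_odd_complement [Finite X] : ∃ F : Subgroup X, Odd (Nat.card ↥F) ∧
    (∃ S : Sylow 2 X, (S : Subgroup X) ≤ normalizer (F : Set X)) ∧
    extendedTwoLayer X = pLayer 2 X ⊔ F := by
  have : Fact (Nat.Prime 2) := ⟨Nat.prime_two⟩
  let T : Sylow 2 ↥(base X) := default
  set P : Subgroup X := (T : Subgroup ↥(base X)).map (base X).subtype with hP
  obtain ⟨S, hS⟩ := (T.2.map (base X).subtype : IsPGroup 2 P).exists_le_sylow
  refine ⟨oddCore X ⊔ term T, ?_, ⟨S, ?_⟩, ?_⟩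
  · exact Nat.coprime_two_right.mp (PCore.coprime_card_sup _ _
      PCore.coprime_card_pPrimeCore (Nat.coprime_two_right.mpr (odd_card_coreOf _)))
  · have hSP : (S : Subgroup X) ≤ normalizer (P : Set X) := by
      have hsub : (S : Subgroup X) ⊓ base X = P := by
        refine le_antisymm ?_ (le_inf hS (map_subtype_le _))
        have hq : IsPGroup 2 ↥((S : Subgroup X).subgroupOf (base X)) :=
          S.2.comap_of_injective _ (base X).subtype_injective
        have := T.3 hq fun y hy => hS (mem_map_of_mem (base X).subtype hy)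
        rw [← subgroupOf_map_subtype, this]
      calc (S : Subgroup X) ≤ normalizer ((S : Subgroup X) : Set X) ⊓ normalizer (base X : Set X) :=
            le_inf le_normalizer (normalizer_eq_top (H := base X) ▸ le_top)
        _ ≤ normalizer (((S : Subgroup X) ⊓ base X : Subgroup X) : Set X) :=
            inf_normalizer_le_normalizer_inf
        _ = normalizer (P : Set X) := by rw [hsub]
    have h1 := hSP.trans (normalizer_le_normalizer_coreOf_centralizer P)
    intro s hs
    have h2 : ∀ u ∈ (S : Subgroup X), ∀ a ∈ oddCore X ⊔ term T,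
        u * a * u⁻¹ ∈ oddCore X ⊔ term T := by
      intro u hu a ha
      rw [← SetLike.mem_coe, Subgroup.normal_mul] at ha
      obtain ⟨o, ho, c, hc, rfl⟩ := ha
      change u * (o * c) * u⁻¹ ∈ _
      rw [show u * (o * c) * u⁻¹ = (u * o * u⁻¹) * (u * c * u⁻¹) by simp [mul_assoc]]
      exact mul_mem (mem_sup_left ((inferInstance : (oddCore X).Normal).conj_mem o ho u))
        (mem_sup_right ((mem_normalizer_iff.mp (h1 hu) c).mp hc))
    exact mem_normalizer_iff.mpr fun a => ⟨h2 s hs a, fun ha => by
      simpa [mul_assoc] using h2 s⁻¹ (inv_mem hs) _ ha⟩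
  · rw [extendedTwoLayer_eq T, low, sup_assoc]

end Cfsg.Agent.TwoLayer
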